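import Groth.Agent.PtTop.Catenary
import Groth.Agent.PtTop.DimFun
import Groth.Prelude.Def_Found
import Mathlib

/-! Catenary spaces and catenary rings. -/

universe u v

open TopologicalSpace AlgebraicGeometry CategoryTheory

namespace Groth.Agent.CatSpace

open Groth.Agent.PtCat (Cat Bd Sat)

theorem cat_iff {P : Type u} [PartialOrder P] :
    Cat P ↔ (∀ a b : P, a ≤ b → ∃ n : ℕ, ∀ s : LTSeries P, s.head = a → s.last = b → s.length ≤ n) ∧
      ∀ s t : LTSeries P, s.head = t.head → s.last = t.last → Sat s → Sat t → s.length = t.length := by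
  constructor
  · intro h
    refine ⟨fun a b hab => ?_, fun s t h1 h2 hs ht => ?_⟩
    · obtain ⟨n, hn, -⟩ := h a b hab
      exact ⟨n, fun s h1 h2 => hn s h1 h2.le⟩
    · obtain ⟨n, -, hn⟩ := h s.head s.last (LTSeries.head_le_last s)
      rw [hn s rfl rfl hs, hn t h1.symm h2.symm ht]
  · rintro ⟨h1, h2⟩ a b hab
    obtain ⟨n, hn⟩ := h1 a b hab
    have hb : Bd a b n := fun s hs hsb => by
      rcases hsb.eq_or_lt with e | hlt
      · exact hn s hs e
      · have := hn (s.snoc b hlt) ((RelSeries.head_snoc s b hlt).trans hs) (RelSeries.last_snoc s b hlt)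
        simp [RelSeries.snoc, RelSeries.append] at this
        omega
    obtain ⟨s₀, e₁, e₂, e₃, e₄⟩ := PtCat.exists_max hab hb
    exact ⟨s₀.length, e₄, fun s hs hsb hsat => h2 s s₀ (hs.trans e₁.symm) (hsb.trans e₂.symm) hsat e₃⟩

theorem isCatenary_iff (R : Type u) [CommRing R] : CAlg.IsCatenary R ↔ Cat (PrimeSpectrum R) := by
  rw [cat_iff]
  rfl

theorem cat_congr {P Q : Type u} [PartialOrder P] [PartialOrder Q] (e : P ≃o Q) : Cat P ↔ Cat Q := by
  have key : ∀ {P Q : Type u} [PartialOrder P] [PartialOrder Q] (e : P ≃o Q), Cat Q → Cat P := fun e h =>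
    PtCat.cat_of_range e.toOrderEmbedding (by
      rw [show Set.range e.toOrderEmbedding = Set.univ from Set.range_eq_univ.2 e.surjective]
      exact Set.ordConnected_univ) h
  exact ⟨key e.symm, key e⟩

theorem cat_dual {P : Type u} [PartialOrder P] (h : Cat P) : Cat Pᵒᵈ := by
  obtain ⟨h1, h2⟩ := cat_iff.1 h
  let rv : LTSeries Pᵒᵈ → LTSeries P := fun s =>
    ⟨s.length, fun i => OrderDual.ofDual (s i.rev), fun i => by
      show OrderDual.ofDual (s (Fin.castSucc i).rev) < OrderDual.ofDual (s i.succ.rev)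
      rw [Fin.rev_castSucc, Fin.rev_succ]
      exact OrderDual.ofDual_lt_ofDual.2 (s.step i.rev)⟩
  have hh : ∀ s, (rv s).head = OrderDual.ofDual s.last := fun s => by
    show OrderDual.ofDual (s (Fin.rev 0)) = _
    rw [Fin.rev_zero]; rfl
  have hl : ∀ s, (rv s).last = OrderDual.ofDual s.head := fun s => by
    show OrderDual.ofDual (s (Fin.rev (Fin.last _))) = _
    rw [Fin.rev_last]; rfl
  have hs : ∀ s, Sat s → Sat (rv s) := fun s hs i => by
    show OrderDual.ofDual (s (Fin.castSucc i).rev) ⋖ OrderDual.ofDual (s i.succ.rev)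
    rw [Fin.rev_castSucc, Fin.rev_succ]
    exact (hs i.rev).ofDual
  refine cat_iff.2 ⟨fun a b hab => ?_, fun s t a b c d => ?_⟩
  · obtain ⟨n, hn⟩ := h1 (OrderDual.ofDual b) (OrderDual.ofDual a) hab
    exact ⟨n, fun s e1 e2 => hn (rv s) (by rw [hh, e2]) (by rw [hl, e1])⟩
  · exact h2 (rv s) (rv t) (by rw [hh, hh, b]) (by rw [hl, hl, a]) (hs s c) (hs t d)

theorem cat_dual_iff {P : Type u} [PartialOrder P] : Cat Pᵒᵈ ↔ Cat P :=
  ⟨fun h => (cat_congr (OrderIso.dualDual P)).2 (cat_dual h), cat_dual⟩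

/-- Irreducible closed subsets along a homeomorphism. -/
def homeoIso {X Y : Type u} [TopologicalSpace X] [TopologicalSpace Y] (e : X ≃ₜ Y) :
    IrreducibleCloseds X ≃o IrreducibleCloseds Y where
  toFun T := ⟨e '' T, T.isIrreducible.image _ e.continuous.continuousOn, e.isClosed_image.2 T.isClosed⟩
  invFun T := ⟨e.symm '' T, T.isIrreducible.image _ e.symm.continuous.continuousOn, e.symm.isClosed_image.2 T.isClosed⟩
  left_inv T := SetLike.coe_injective (by show e.symm '' (e '' (T : Set X)) = T; rw [Set.image_image]; simp)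
  right_inv T := SetLike.coe_injective (by show e '' (e.symm '' (T : Set Y)) = T; rw [Set.image_image]; simp)
  map_rel_iff' {a b} := Set.image_subset_image_iff e.injective

theorem isCatenarySpace_congr {X Y : Type u} [TopologicalSpace X] [TopologicalSpace Y] (e : X ≃ₜ Y) :
    PtTop.IsCatenarySpace X ↔ PtTop.IsCatenarySpace Y := by
  rw [PtCat.isCatenary_iff, PtCat.isCatenary_iff]
  exact cat_congr (homeoIso e)

theorem isCatenarySpace_primeSpectrum (R : Type u) [CommRing R] :
    PtTop.IsCatenarySpace (PrimeSpectrum R) ↔ CAlg.IsCatenary R := by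
  rw [PtCat.isCatenary_iff, isCatenary_iff, cat_congr (PrimeSpectrum.pointsEquivIrreducibleCloseds R), cat_dual_iff]

theorem isCatenarySpace_affineOpen {X : Scheme.{u}} {U : X.Opens} (hU : IsAffineOpen U) :
    PtTop.IsCatenarySpace U ↔ CAlg.IsCatenary Γ(X, U) :=
  (isCatenarySpace_congr (Scheme.homeoOfIso hU.isoSpec)).trans (isCatenarySpace_primeSpectrum Γ(X, U))

variable {X : Scheme.{u}}

/-- Generisations of a point as irreducible closed subsets. -/
noncomputable def stalkEmb (x : X) : (PrimeSpectrum (X.presheaf.stalk x))ᵒᵈ ↪o IrreducibleCloseds X :=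
  OrderEmbedding.ofMapLEIff
    (fun q => ⟨closure {X.fromSpecStalk x (OrderDual.ofDual q)}, isIrreducible_singleton.closure, isClosed_closure⟩)
    fun a b => by
      show closure {X.fromSpecStalk x (OrderDual.ofDual a)} ⊆ closure {X.fromSpecStalk x (OrderDual.ofDual b)} ↔ _
      rw [← specializes_iff_closure_subset, (X.fromSpecStalk x).isEmbedding.isInducing.specializes_iff]
      exact (PrimeSpectrum.le_iff_specializes (OrderDual.ofDual b) (OrderDual.ofDual a)).symm

theorem range_stalkEmb (x : X) : Set.range (stalkEmb x) = {T : IrreducibleCloseds X | x ∈ (T : Set X)} := by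
  ext T
  constructor
  · rintro ⟨q, rfl⟩
    exact specializes_iff_mem_closure.1 ((Scheme.range_fromSpecStalk (X := X) (x := x)).le ⟨OrderDual.ofDual q, rfl⟩)
  · intro hx
    have hs : PtDimFun.pt T ⤳ x := (PtDimFun.pt_spec T).specializes hx
    obtain ⟨q, hq⟩ := (Scheme.range_fromSpecStalk (X := X) (x := x)).ge hs
    exact ⟨OrderDual.toDual q, SetLike.coe_injective (by
      show closure {X.fromSpecStalk x q} = (T : Set X)
      rw [hq]; exact PtDimFun.pt_spec T)⟩

theorem isCatenarySpace_iff_stalk :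
    PtTop.IsCatenarySpace X ↔ ∀ x : X, CAlg.IsCatenary (X.presheaf.stalk x) := by
  have hord : ∀ x : X, (Set.range (stalkEmb x)).OrdConnected := fun x => by
    rw [range_stalkEmb]
    exact ⟨fun a ha b _ c hc => hc.1 ha⟩
  rw [PtCat.isCatenary_iff]
  refine ⟨fun h x => ?_, fun h a b hab => ?_⟩
  · rw [isCatenary_iff, ← cat_dual_iff]
    exact PtCat.cat_of_range (stalkEmb x) (hord x) h
  · obtain ⟨x, hx⟩ := a.isIrreducible.nonempty
    obtain ⟨a', rfl⟩ := (range_stalkEmb x).ge hx
    obtain ⟨b', rfl⟩ := (range_stalkEmb x).ge (hab hx)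
    exact PtCat.cat_at _ (hord x) (cat_dual_iff.2 ((isCatenary_iff _).1 (h x))) hab

end Groth.Agent.CatSpace
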