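import Groth.Agent.CatSpace.Basic
import Groth.Agent.QCohLib.StalkLoc
import Groth.Agent.S12444

/-! Local dimension functions on catenary locally Noetherian schemes. -/

universe u

open TopologicalSpace AlgebraicGeometry CategoryTheory

namespace Groth.Agent.CatSpace

open Groth.Agent.PtCat (Cat Bd Sat)

section order

variable {P : Type u} [PartialOrder P] (h : Cat P)

open Classical in
/-- The length of saturated chains between two elements. -/
noncomputable def gap (a b : P) : ℕ := if hab : a ≤ b then (h a b hab).choose else 0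

theorem gap_spec {a b : P} (hab : a ≤ b) :
    Bd a b (gap h a b) ∧ ∀ s : LTSeries P, s.head = a → s.last = b → Sat s → s.length = gap h a b := by
  simp only [gap, dif_pos hab]
  exact (h a b hab).choose_spec

theorem gap_add {a b c : P} (hab : a ≤ b) (hbc : b ≤ c) : gap h a c = gap h a b + gap h b c := by
  obtain ⟨s, s1, s2, s3, -⟩ := PtCat.exists_max hab (gap_spec h hab).1
  obtain ⟨t, t1, t2, t3, -⟩ := PtCat.exists_max hbc (gap_spec h hbc).1
  have e : s.last = t.head := s2.trans t1.symm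
  have := (gap_spec h (hab.trans hbc)).2 (s.smash t e) (by rw [RelSeries.head_smash, s1]) (by rw [RelSeries.last_smash, t2])
    (PtCat.sat_smash e s3 t3)
  rw [← this, RelSeries.smash_length, (gap_spec h hab).2 s s1 s2 s3, (gap_spec h hbc).2 t t1 t2 t3]

theorem gap_covBy {a b : P} (hab : a ⋖ b) : gap h a b = 1 := by
  have := (gap_spec h hab.le).2 ⟨1, ![a, b], fun i => by fin_cases i; exact hab.lt⟩ rfl rfl
    (fun i => by fin_cases i; exact hab)
  exact this.symm

theorem gap_pos {a b : P} (hab : a < b) : 1 ≤ gap h a b :=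
  (gap_spec h hab.le).1 ⟨1, ![a, b], fun i => by fin_cases i; exact hab⟩ rfl le_rfl

end order

variable {X : Scheme.{u}}

theorem exists_dimensionFunction [IsLocallyNoetherian X] (hX : PtTop.IsCatenarySpace X) (s : X) :
    ∃ U : X.Opens, s ∈ U ∧ ∃ δ : U → ℤ, PtTop.IsDimensionFunction δ := by
  classical
  obtain ⟨U, hU, hs, -⟩ := exists_isAffineOpen_mem_and_subset (X := X) (x := s) (U := ⊤) trivial
  haveI : IsNoetherianRing Γ(X, U) := IsLocallyNoetherian.component_noetherian ⟨U, hU⟩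
  have hcat : Cat (PrimeSpectrum Γ(X, U)) := (isCatenary_iff _).1
    ((isCatenarySpace_affineOpen hU).1 ((S12444.result X).2 hX (U : Set X) U.2.isLocallyClosed))
  set p := hU.primeIdealOf ⟨s, hs⟩ with hp
  let T : Set (Ideal Γ(X, U)) := minimalPrimes Γ(X, U) ∪
    ⋃ P ∈ minimalPrimes Γ(X, U), ⋃ Q ∈ minimalPrimes Γ(X, U), (P ⊔ Q).minimalPrimes
  have hT : T.Finite := (minimalPrimes.finite_of_isNoetherianRing _).union
    ((minimalPrimes.finite_of_isNoetherianRing _).biUnion fun P _ =>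
      (minimalPrimes.finite_of_isNoetherianRing _).biUnion fun Q _ => Ideal.finite_minimalPrimes_of_isNoetherianRing _ _)
  obtain ⟨g, hgp, hg⟩ : ∃ g : Γ(X, U), g ∉ p.asIdeal ∧ ∀ w ∈ T, ¬ w ≤ p.asIdeal → g ∈ w := by
    let T' := hT.toFinset.filter fun w => ¬ w ≤ p.asIdeal
    have : ¬ (∏ w ∈ T', w) ≤ p.asIdeal := fun hle => by
      obtain ⟨w, hw, hwp⟩ := (Ideal.IsPrime.prod_le p.2).1 hle
      exact (Finset.mem_filter.1 hw).2 hwp
    obtain ⟨g, hg1, hg2⟩ := SetLike.not_le_iff_exists.1 this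
    exact ⟨g, hg2, fun w hw hwp => Ideal.le_of_dvd (Finset.dvd_prod_of_mem _ (Finset.mem_filter.2 ⟨hT.mem_toFinset.2 hw, hwp⟩)) hg1⟩
  have hbe : ∀ {w : Ideal Γ(X, U)} {q : PrimeSpectrum Γ(X, U)}, w ∈ T → g ∉ q.asIdeal → w ≤ q.asIdeal → w ≤ p.asIdeal :=
    fun hw hgq hwq => by_contra fun hn => hgq (hwq (hg _ hw hn))
  let D : PrimeSpectrum Γ(X, U) → PrimeSpectrum Γ(X, U) → ℤ := fun m q => (gap hcat m p : ℤ) - gap hcat m q
  have hmin : ∀ q : PrimeSpectrum Γ(X, U), ∃ m : PrimeSpectrum Γ(X, U), m.asIdeal ∈ minimalPrimes Γ(X, U) ∧ m ≤ q := fun q => by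
    obtain ⟨m, hm, hle⟩ := Ideal.exists_minimalPrimes_le (bot_le : ⊥ ≤ q.asIdeal)
    exact ⟨⟨m, hm.1.1⟩, hm, hle⟩
  choose m hm hmle using hmin
  have hind : ∀ (q m₁ m₂ : PrimeSpectrum Γ(X, U)), g ∉ q.asIdeal → m₁.asIdeal ∈ minimalPrimes Γ(X, U) →
      m₂.asIdeal ∈ minimalPrimes Γ(X, U) → m₁ ≤ q → m₂ ≤ q → D m₁ q = D m₂ q := by
    intro q m₁ m₂ hgq h₁ h₂ l₁ l₂
    obtain ⟨w, hw, hwq⟩ := Ideal.exists_minimalPrimes_le (show m₁.asIdeal ⊔ m₂.asIdeal ≤ q.asIdeal from sup_le l₁ l₂)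
    have hwT : w ∈ T := Or.inr (Set.mem_biUnion h₁ (Set.mem_biUnion h₂ hw))
    let W : PrimeSpectrum Γ(X, U) := ⟨w, hw.1.1⟩
    have e₁ : m₁ ≤ W := (show m₁.asIdeal ≤ w from le_sup_left.trans hw.1.2)
    have e₂ : m₂ ≤ W := (show m₂.asIdeal ≤ w from le_sup_right.trans hw.1.2)
    have ep : W ≤ p := hbe hwT hgq hwq
    have eq' : W ≤ q := hwq
    simp only [D]
    rw [gap_add hcat e₁ ep, gap_add hcat e₁ eq', gap_add hcat e₂ ep, gap_add hcat e₂ eq']
    push_cast
    ring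
  let V : X.Opens := X.basicOpen g
  have hVU : V ≤ U := X.basicOpen_le g
  let pr : V → PrimeSpectrum Γ(X, U) := fun y => hU.primeIdealOf ⟨y.1, hVU y.2⟩
  have hpr : ∀ y, g ∉ (pr y).asIdeal := fun y =>
    (QCohLib.mem_basicOpen_iff_notMem_primeIdealOf hU (hVU y.2) g).1 y.2
  have hspec : ∀ y y' : V, y ⤳ y' ↔ pr y ≤ pr y' := fun y y' => by
    rw [subtype_specializes_iff]
    refine Iff.trans ?_ (PrimeSpectrum.le_iff_specializes _ _).symm
    refine Iff.trans ?_ hU.fromSpec.isEmbedding.isInducing.specializes_iff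
    rw [hU.fromSpec_primeIdealOf, hU.fromSpec_primeIdealOf]
  have hinj : Function.Injective pr := fun y y' e => by
    have := congrArg hU.fromSpec e
    rw [hU.fromSpec_primeIdealOf, hU.fromSpec_primeIdealOf] at this
    exact Subtype.ext this
  refine ⟨V, (QCohLib.mem_basicOpen_iff_notMem_primeIdealOf hU hs g).2 hgp, fun y => D (m (pr y)) (pr y), ?_, ?_⟩
  · intro y y' hyy' hne
    have hlt : pr y < pr y' := lt_of_le_of_ne ((hspec _ _).1 hyy') fun e => hne (hinj e)
    show D (m (pr y')) (pr y') < D (m (pr y)) (pr y)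
    rw [hind (pr y') (m (pr y')) (m (pr y)) (hpr y') (hm _) (hm _) (hmle _) ((hmle _).trans hlt.le)]
    simp only [D]
    rw [gap_add hcat (hmle (pr y)) hlt.le]
    have := gap_pos hcat hlt
    omega
  · rintro y y' ⟨hyy', hne, hbet⟩
    have hlt : pr y < pr y' := lt_of_le_of_ne ((hspec _ _).1 hyy') fun e => hne (hinj e)
    have hcov : pr y ⋖ pr y' := ⟨hlt, fun r h1 h2 => by
      have hgr : g ∉ r.asIdeal := fun hgr => hpr y' (h2.le hgr)
      have hrU : hU.fromSpec r ∈ U := hU.range_fromSpec.le ⟨r, rfl⟩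
      have he : hU.primeIdealOf ⟨_, hrU⟩ = r :=
        hU.fromSpec.isOpenEmbedding.injective (hU.fromSpec_primeIdealOf _)
      let z : V := ⟨hU.fromSpec r, (QCohLib.mem_basicOpen_iff_notMem_primeIdealOf hU hrU g).2 (he.symm ▸ hgr)⟩
      have hz : pr z = r := he
      rcases hbet z ((hspec _ _).2 (hz.symm ▸ h1.le)) ((hspec _ _).2 (hz.symm ▸ h2.le)) with e | e
      · exact h1.ne (by rw [← hz, e])
      · exact h2.ne (by rw [← hz, e])⟩
    show D (m (pr y)) (pr y) = D (m (pr y')) (pr y') + 1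
    rw [hind (pr y') (m (pr y')) (m (pr y)) (hpr y') (hm _) (hm _) (hmle _) ((hmle _).trans hlt.le)]
    simp only [D]
    rw [gap_add hcat (hmle (pr y)) hlt.le, gap_covBy hcat hcov]
    push_cast
    ring

theorem catenary_iff_locally_dimensionFunction [IsLocallyNoetherian X] :
    PtTop.IsCatenarySpace X ↔ ∀ s : X, ∃ U : X.Opens, s ∈ U ∧ ∃ δ : U → ℤ, PtTop.IsDimensionFunction δ := by
  refine ⟨exists_dimensionFunction, fun h => (S12444.result X).1.2 fun s => ?_⟩
  obtain ⟨U, hs, δ, hδ⟩ := h s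
  haveI : QuasiSober ↥U := U.2.isOpenEmbedding_subtypeVal.quasiSober
  exact ⟨U, hs, PtDimFun.isCatenary hδ⟩

end Groth.Agent.CatSpace
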